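import Groth.Agent.Lib.EtRamProper29.Cover

/-!
# Residue fields of étale schemes with a fibrewise transitive group action are Galois
-/

set_option maxHeartbeats 400000
set_option autoImplicit false
set_option backward.isDefEq.respectTransparency false
set_option linter.style.haveILetI false

universe u v

open CategoryTheory AlgebraicGeometry Limits

namespace Groth.Agent.TamePrincipal25

open Groth.Agent.EtRamProper29 (exists_factor fromSpec_apply)

variable {W T : Scheme.{u}} (q : W ⟶ T) [Etale q] (z : W)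

theorem galois_residue (Ω : Type u) [Field Ω] [IsAlgClosed Ω] [Algebra (W.residueField z) Ω]
    (C : Type v) [Group C] [Finite C] (a : C → (W ⟶ W)) (ha1 : a 1 = 𝟙 W)
    (ham : ∀ σ τ, a (σ * τ) = a τ ≫ a σ) (haq : ∀ σ, a σ ≫ q = q)
    (htr : ∀ (Ω : Type u) [Field Ω] [IsAlgClosed Ω] (s t : Spec (CommRingCat.of Ω) ⟶ W), s ≫ q = t ≫ q →
      ∃ σ, s ≫ a σ = t) :
    letI := (q.residueFieldMap z).hom.toAlgebra
    IsGalois (T.residueField (q.base z)) (W.residueField z) ∧
      FiniteDimensional (T.residueField (q.base z)) (W.residueField z) ∧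
      Module.finrank (T.residueField (q.base z)) (W.residueField z) ∣ Nat.card C := by
  letI := (q.residueFieldMap z).hom.toAlgebra
  classical
  haveI : Algebra.IsSeparable (T.residueField (q.base z)) (W.residueField z) := by
    have h := EtaleFibre12.etale_SpecMap_residueFieldMap q z
    rw [HasRingHomProperty.Spec_iff (P := @Etale)] at h
    haveI : Algebra.Etale (T.residueField (q.base z)) (W.residueField z) := h
    exact Algebra.FormallyUnramified.isSeparable _ _
  let K := T.residueField (q.base z)
  let L := W.residueField z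
  haveI : FiniteDimensional K L := EtaleFibre12.finite_residueFieldMap q z
  letI : Algebra K Ω := ((algebraMap L Ω).comp (algebraMap K L)).toAlgebra
  haveI : IsScalarTower K L Ω := IsScalarTower.of_algebraMap_eq fun _ => rfl
  let ι : L →ₐ[K] Ω := IsScalarTower.toAlgHom K L Ω
  let ξ : Spec (CommRingCat.of Ω) ⟶ T :=
    Spec.map (CommRingCat.ofHom ι.toRingHom) ≫ W.fromSpecResidueField z ≫ q
  -- the fibre points over `z`
  let P := {s : {s : Spec (CommRingCat.of Ω) ⟶ W // s ≫ q = ξ} // s.1.base (IsLocalRing.closedPoint Ω) = z}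
  let pt : (L →ₐ[K] Ω) → P := fun j =>
    ⟨⟨Spec.map (CommRingCat.ofHom j.toRingHom) ≫ W.fromSpecResidueField z, by
      show _ = Spec.map (CommRingCat.ofHom ι.toRingHom) ≫ W.fromSpecResidueField z ≫ q
      rw [Category.assoc, ← Scheme.Hom.SpecMap_residueFieldMap_fromSpecResidueField, ← Spec.map_comp_assoc,
        ← Spec.map_comp_assoc]
      congr 2
      ext c
      exact (j.commutes c).trans (ι.commutes c).symm⟩, fromSpec_apply Ω z _⟩
  have hpt : Function.Bijective pt := by
    constructor
    · intro j j' h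
      have h1 := congrArg (fun t : P => t.1.1) h
      simp only [pt, cancel_mono] at h1
      exact AlgHom.coe_ringHom_injective (congrArg CommRingCat.Hom.hom (Spec.map_injective h1))
    · rintro ⟨⟨s, hs⟩, hsz⟩
      obtain ⟨h, rfl⟩ := exists_factor Ω s z hsz
      have hcomm : q.residueFieldMap z ≫ h = q.residueFieldMap z ≫ CommRingCat.ofHom ι.toRingHom := by
        apply Spec.map_injective
        rw [← cancel_mono (T.fromSpecResidueField _), Spec.map_comp, Spec.map_comp, Category.assoc, Category.assoc]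
        refine (congrArg (Spec.map h ≫ ·) (Scheme.Hom.SpecMap_residueFieldMap_fromSpecResidueField q z)).trans ?_
        refine Eq.trans ?_ (congrArg (Spec.map (CommRingCat.ofHom ι.toRingHom) ≫ ·)
          (Scheme.Hom.SpecMap_residueFieldMap_fromSpecResidueField q z)).symm
        exact (Category.assoc _ _ _).symm.trans hs
      refine ⟨AlgHom.mk h.hom fun c => ?_, rfl⟩
      exact (congrArg (fun r : K ⟶ CommRingCat.of Ω => r.hom c) hcomm).trans (ι.commutes c)
  have hcard : Nat.card P = Module.finrank K L :=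
    (Nat.card_congr (Equiv.ofBijective pt hpt)).symm.trans (AlgHom.natCard_of_splits K L Ω
      fun x => IsAlgClosed.splits _)
  -- elements fixing `z`
  let H : Subgroup C :=
    { carrier := {σ | (a σ).base z = z}
      one_mem' := by show (a 1).base z = z; rw [ha1]; rfl
      mul_mem' := fun {σ τ} hσ hτ => by
        show (a (σ * τ)).base z = z
        rw [ham, Scheme.Hom.comp_apply, hτ, hσ]
      inv_mem' := fun {σ} hσ => by
        show (a σ⁻¹).base z = z
        conv_lhs => rw [← hσ]
        rw [← Scheme.Hom.comp_apply, ← ham, inv_mul_cancel, ha1]; rfl }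
  letI : MulAction H P :=
    { smul := fun σ t => ⟨⟨t.1.1 ≫ a σ.1, by rw [Category.assoc, haq, t.1.2]⟩, by
        show (t.1.1 ≫ a σ.1).base (IsLocalRing.closedPoint Ω) = z
        rw [Scheme.Hom.comp_apply, t.2]; exact σ.2⟩
      one_smul := fun t => Subtype.ext (Subtype.ext (by show t.1.1 ≫ a 1 = t.1.1; rw [ha1, Category.comp_id]))
      mul_smul := fun σ τ t => Subtype.ext (Subtype.ext (by
        show t.1.1 ≫ a (σ.1 * τ.1) = (t.1.1 ≫ a τ.1) ≫ a σ.1
        rw [ham, Category.assoc])) }
  have htrans : ∀ t : P, ∃ σ : H, σ • pt ι = t := by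
    intro t
    obtain ⟨σ, hσ⟩ := htr Ω (pt ι).1.1 t.1.1 ((pt ι).1.2.trans t.1.2.symm)
    have hσz : (a σ).base z = z := by
      have h := congrArg (fun s : Spec (CommRingCat.of Ω) ⟶ W => s.base (IsLocalRing.closedPoint Ω)) hσ
      change ((pt ι).1.1 ≫ a σ).base (IsLocalRing.closedPoint Ω) = t.1.1.base (IsLocalRing.closedPoint Ω) at h
      rwa [Scheme.Hom.comp_apply, (pt ι).2, t.2] at h
    exact ⟨⟨σ, hσz⟩, Subtype.ext (Subtype.ext hσ)⟩
  have hdvd : Nat.card P ∣ Nat.card C := by
    refine Dvd.dvd.trans ?_ (Subgroup.card_subgroup_dvd_card H)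
    have horb : MulAction.orbit H (pt ι) = Set.univ := Set.eq_univ_of_forall htrans
    have h1 := Nat.card_congr (MulAction.orbitEquivQuotientStabilizer H (pt ι))
    rw [horb, Nat.card_congr (Equiv.Set.univ P)] at h1
    rw [h1]
    exact Subgroup.card_quotient_dvd_card _
  -- every embedding factors through an automorphism
  have hfac : ∀ j : L →ₐ[K] Ω, ∃ a : L →ₐ[K] L, ι.comp a = j := by
    intro j
    obtain ⟨⟨σ, hσz⟩, hσ⟩ := htrans (pt j)
    obtain ⟨h, hh⟩ := exists_factor L (W.fromSpecResidueField z ≫ (a σ)) z (by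
      rw [Scheme.Hom.comp_apply]
      exact (congrArg (a σ).base (Scheme.fromSpecResidueField_apply z _)).trans hσz)
    have hσ' : (Spec.map (CommRingCat.ofHom ι.toRingHom) ≫ W.fromSpecResidueField z) ≫ (a σ) =
        Spec.map (CommRingCat.ofHom j.toRingHom) ≫ W.fromSpecResidueField z :=
      congrArg (fun t : P => t.1.1) hσ
    rw [Category.assoc, ← hh, ← Category.assoc, cancel_mono, ← Spec.map_comp] at hσ'
    have hj : h ≫ CommRingCat.ofHom ι.toRingHom = CommRingCat.ofHom j.toRingHom := Spec.map_injective hσ'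
    refine ⟨AlgHom.mk h.hom fun c => ι.toRingHom.injective ?_, AlgHom.ext fun x =>
      congrArg (fun r : L ⟶ CommRingCat.of Ω => r.hom x) hj⟩
    exact ((congrArg (fun r : L ⟶ CommRingCat.of Ω => r.hom (algebraMap K L c)) hj).trans (j.commutes c)).trans
      (ι.commutes c).symm
  have hGal : Nat.card (L ≃ₐ[K] L) = Module.finrank K L := by
    rw [← AlgHom.natCard_of_splits K L Ω fun x => IsAlgClosed.splits _]
    refine Nat.card_congr (Equiv.ofBijective (fun a : L ≃ₐ[K] L => ι.comp a.toAlgHom) ⟨fun a b h => ?_, fun j => ?_⟩)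
    · exact AlgEquiv.ext fun x => ι.toRingHom.injective (AlgHom.congr_fun h x)
    · obtain ⟨a, ha⟩ := hfac j
      exact ⟨AlgEquiv.ofBijective a (Algebra.IsAlgebraic.algHom_bijective a), ha⟩
  exact ⟨IsGalois.of_card_aut_eq_finrank K L hGal, inferInstance, hcard ▸ hdvd⟩

end Groth.Agent.TamePrincipal25
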